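import Cfsg.Agent.H100.Ppd.Defs

/-!
# UN1 of UX (S5716, unbounded rank): the outcome `NatE` of S5948 with the exact form (helper948)

* `NatE P` : `P` contains `SL_n`, or `P` fixes a symplectic form (a unitary form, a nondegenerate quadratic form) and
  contains all isometries (all isometries of determinant one, `Ω`);
* `NatE.nat' : NatE P → Nat' P`.
-/

set_option autoImplicit false

namespace Cfsg.Agent.H948.Ux

open Cfsg Cfsg.Geo Matrix
open Cfsg.Agent.H100.Ppd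

universe u

variable {n : ℕ} {F : Type u} [Field F]

/-- **The outcome, with the invariant form.** -/
def NatE (P : Subgroup (GL (Fin n) F)) : Prop :=
  specialLinear (Fin n) F ≤ P ∨
  (∃ f : (Fin n → F) → (Fin n → F) → F, IsSymplecticForm f ∧
    (∀ x ∈ P, FixesForm {(x : Matrix (Fin n) (Fin n) F)} f) ∧
    ∀ x : GL (Fin n) F, FixesForm {(x : Matrix (Fin n) (Fin n) F)} f → x ∈ P) ∨
  (∃ (τ : F ≃+* F) (f : (Fin n → F) → (Fin n → F) → F), IsUnitaryForm τ f ∧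
    (∀ x ∈ P, FixesForm {(x : Matrix (Fin n) (Fin n) F)} f) ∧
    ∀ x : GL (Fin n) F, FixesForm {(x : Matrix (Fin n) (Fin n) F)} f →
      Matrix.GeneralLinearGroup.det x = 1 → x ∈ P) ∨
  (∃ Q : (Fin n → F) → F, IsNondegenerateQuadraticForm Q ∧
    (∀ x ∈ P, ∀ v, Q ((x : Matrix (Fin n) (Fin n) F) *ᵥ v) = Q v) ∧ omegaGL Q ≤ P)

theorem NatE.nat' [Finite F] {P : Subgroup (GL (Fin n) F)} (h : NatE P) : Nat' P := by
  rcases h with h | ⟨f, hf, -, h⟩ | ⟨τ, f, hf, -, h⟩ | ⟨Q, hQ, -, h⟩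
  · exact Or.inl h
  · exact Or.inr (Or.inl ⟨f, hf, h⟩)
  · exact Or.inr (Or.inr (Or.inl ⟨τ, f, hf, h⟩))
  · exact Or.inr (Or.inr (Or.inr ⟨Q, hQ, h⟩))

end Cfsg.Agent.H948.Ux
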